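/-
The subgroup `SL₃` on the long roots of `G₂`, as an explicit homomorphism: the adjoint module is
`sl₃ ⊕ V ⊕ V*`.
-/
import Cfsg.Agent.Lib.Chev.Types
import Cfsg.Agent.Lib.StSL.Rel

set_option autoImplicit false

namespace CfsgLib.Chev.G2

open Cfsg.Lie Matrix
open scoped MatrixGroups

variable {L : Type*} [Field L]

/-- a trace zero matrix, a vector and a covector -/
abbrev Tri (L : Type*) : Type _ :=
  Matrix (Fin 3) (Fin 3) L × (Fin 3 → L) × (Fin 3 → L)

/-- the coordinate of a root -/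
abbrev rt (r : Fin 12) : chevG2.Idx := Sum.inr r

/-- the coordinate of a fundamental coroot -/
abbrev ht (i : Fin 2) : chevG2.Idx := Sum.inl i

/-- a vector from its coordinates -/
def mkVec (a : Fin 2 → L) (b : Fin 12 → L) : chevG2.Idx → L := Sum.elim a b

omit [Field L] in
@[simp] theorem mkVec_ht (a : Fin 2 → L) (b : Fin 12 → L) (i : Fin 2) : mkVec a b (ht i) = a i := rfl

omit [Field L] in
@[simp] theorem mkVec_rt (a : Fin 2 → L) (b : Fin 12 → L) (r : Fin 12) : mkVec a b (rt r) = b r := rfl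

/-- case analysis on the coordinates -/
theorem idx_cases {P : chevG2.Idx → Prop} (a0 : P (ht 0)) (a1 : P (ht 1))
    (b0 : P (rt 0)) (b1 : P (rt 1)) (b2 : P (rt 2)) (b3 : P (rt 3)) (b4 : P (rt 4)) (b5 : P (rt 5))
    (b6 : P (rt 6)) (b7 : P (rt 7)) (b8 : P (rt 8)) (b9 : P (rt 9)) (b10 : P (rt 10))
    (b11 : P (rt 11)) : ∀ i, P i := by
  rintro (i | i)
  · change Fin 2 at i
    fin_cases i <;> assumption
  · change Fin 12 at i
    fin_cases i <;> assumption

/-- coordinates to triples -/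
def toTri : (chevG2.Idx → L) →ₗ[L] Tri L where
  toFun x := (!![-x (ht 0), x (rt 11), x (rt 10);
      x (rt 0), x (ht 1) - x (ht 0), x (rt 5);
      x (rt 1), x (rt 6), 2 * x (ht 0) - x (ht 1)],
    ![x (rt 9), x (rt 3), x (rt 4)], ![x (rt 2), x (rt 8), x (rt 7)])
  map_add' x y := by
    refine Prod.ext ?_ (Prod.ext ?_ ?_)
    · ext i j; fin_cases i <;> fin_cases j <;> simp <;> ring
    · ext i; fin_cases i <;> simp
    · ext i; fin_cases i <;> simp
  map_smul' c x := by
    refine Prod.ext ?_ (Prod.ext ?_ ?_)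
    · ext i j; fin_cases i <;> fin_cases j <;> simp <;> ring
    · ext i; fin_cases i <;> simp
    · ext i; fin_cases i <;> simp

/-- triples to coordinates -/
def ofTri : Tri L →ₗ[L] chevG2.Idx → L where
  toFun p := mkVec ![-p.1 0 0, p.1 1 1 - p.1 0 0]
    ![p.1 1 0, p.1 2 0, p.2.2 0, p.2.1 1, p.2.1 2, p.1 1 2, p.1 2 1, p.2.2 2, p.2.2 1, p.2.1 0,
      p.1 0 2, p.1 0 1]
  map_add' p q := by
    funext i
    induction i using idx_cases <;> simp <;> ring
  map_smul' c p := by
    funext i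
    induction i using idx_cases <;> simp <;> ring

theorem toTri_apply (x : chevG2.Idx → L) : toTri x =
    (!![-x (ht 0), x (rt 11), x (rt 10);
      x (rt 0), x (ht 1) - x (ht 0), x (rt 5);
      x (rt 1), x (rt 6), 2 * x (ht 0) - x (ht 1)],
    ![x (rt 9), x (rt 3), x (rt 4)], ![x (rt 2), x (rt 8), x (rt 7)]) := rfl

theorem ofTri_apply (p : Tri L) : ofTri p = mkVec ![-p.1 0 0, p.1 1 1 - p.1 0 0]
    ![p.1 1 0, p.1 2 0, p.2.2 0, p.2.1 1, p.2.1 2, p.1 1 2, p.1 2 1, p.2.2 2, p.2.2 1, p.2.1 0,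
      p.1 0 2, p.1 0 1] := rfl

theorem ofTri_toTri (x : chevG2.Idx → L) : ofTri (toTri x) = x := by
  funext i
  induction i using idx_cases <;> simp [toTri, ofTri]

theorem toTri_ofTri {p : Tri L} (h : p.1.trace = 0) : toTri (ofTri p) = p := by
  rw [Matrix.trace_fin_three] at h
  refine Prod.ext ?_ (Prod.ext ?_ ?_)
  · ext i j
    fin_cases i <;> fin_cases j <;> simp [toTri, ofTri] <;> linear_combination (-1 : L) * h
  · ext i; fin_cases i <;> simp [toTri, ofTri]
  · ext i; fin_cases i <;> simp [toTri, ofTri]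

theorem trace_toTri (x : chevG2.Idx → L) : (toTri x).1.trace = 0 := by
  simp [Matrix.trace_fin_three, toTri]; ring

/-- the action on triples -/
def act (A : SL(3, L)) : Tri L →ₗ[L] Tri L where
  toFun p := (A.1 * p.1 * (A⁻¹).1, A.1 *ᵥ p.2.1, p.2.2 ᵥ* (A⁻¹).1)
  map_add' p q := by
    simp [Matrix.mul_add, Matrix.add_mul, Matrix.mulVec_add, Matrix.add_vecMul]
  map_smul' c p := by
    simp [Matrix.mulVec_smul, Matrix.smul_vecMul]

theorem act_apply (A : SL(3, L)) (p : Tri L) :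
    act A p = (A.1 * p.1 * (A⁻¹).1, A.1 *ᵥ p.2.1, p.2.2 ᵥ* (A⁻¹).1) := rfl

theorem trace_act (A : SL(3, L)) (p : Tri L) : (act A p).1.trace = p.1.trace := by
  show (A.1 * p.1 * (A⁻¹).1).trace = _
  rw [Matrix.trace_mul_cycle, ← Matrix.SpecialLinearGroup.coe_mul, inv_mul_cancel,
    Matrix.SpecialLinearGroup.coe_one, Matrix.one_mul]

theorem act_mul (A B : SL(3, L)) (p : Tri L) : act (A * B) p = act A (act B p) := by
  refine Prod.ext ?_ (Prod.ext ?_ ?_) <;>
    simp [act, _root_.mul_inv_rev, Matrix.mul_assoc, Matrix.mulVec_mulVec, Matrix.vecMul_vecMul]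

theorem act_one (p : Tri L) : act (1 : SL(3, L)) p = p := by simp [act]

/-- the matrix of the action -/
noncomputable def phiMat (A : SL(3, L)) : Matrix chevG2.Idx chevG2.Idx L :=
  LinearMap.toMatrix' (ofTri ∘ₗ act A ∘ₗ toTri)

theorem phiMat_mulVec (A : SL(3, L)) (x : chevG2.Idx → L) :
    phiMat A *ᵥ x = ofTri (act A (toTri x)) := by
  rw [phiMat, ← Matrix.toLin'_apply, Matrix.toLin'_toMatrix']; rfl

theorem phiMat_mul (A B : SL(3, L)) : phiMat (A * B) = phiMat A * phiMat B := by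
  refine Matrix.ext_iff_mulVec.2 fun x => ?_
  rw [← Matrix.mulVec_mulVec, phiMat_mulVec, phiMat_mulVec, phiMat_mulVec, act_mul,
    toTri_ofTri (by rw [trace_act, trace_toTri])]

theorem phiMat_one : phiMat (1 : SL(3, L)) = 1 := by
  refine Matrix.ext_iff_mulVec.2 fun x => ?_
  rw [phiMat_mulVec, act_one, ofTri_toTri, Matrix.one_mulVec]

/-- `SL₃` inside the group of automorphisms of the adjoint module -/
noncomputable def phi : SL(3, L) →* GL chevG2.Idx L :=
  MonoidHom.toHomUnits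
    { toFun := phiMat
      map_one' := phiMat_one
      map_mul' := phiMat_mul }

theorem phi_val (A : SL(3, L)) : ((phi A : GL chevG2.Idx L) : Matrix chevG2.Idx chevG2.Idx L) = phiMat A :=
  MonoidHom.coe_toHomUnits _ A

end CfsgLib.Chev.G2
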