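/-
The elementary transvections of the long root `SL₃` are the long root elements.
-/
import Cfsg.Agent.Lib.Chev.G2.LongSL3

set_option autoImplicit false

namespace CfsgLib.Chev.G2

open Cfsg.Lie Matrix
open scoped MatrixGroups

variable {L : Type*} [Field L]

/- table projections -/
theorem negIdx_eq : chevG2.negIdx = chevG2NegIdx := rfl
theorem coroot_eq : chevG2.coroot = chevG2Coroot := rfl
theorem cartanSR_eq : chevG2.cartanSR = chevG2CartanSR := rfl
theorem chain_eq : chevG2.chain = chevG2Chain := rfl

/-- the entries of a root element by numbers -/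
def xN (r : ℕ) (t : L) : ℕ ⊕ ℕ → ℕ ⊕ ℕ → L := fun row col =>
  match col with
  | Sum.inl i =>
    (match row with
     | Sum.inl i' => if i' = i then 1 else 0
     | Sum.inr u => if u = r then - (((chevG2CartanSR.getD i #[]).getD r 0 : ℤ) : L) * t else 0)
  | Sum.inr s =>
    if s = r then (match row with | Sum.inr u => if u = r then 1 else 0 | Sum.inl _ => 0)
    else if s = chevG2NegIdx.getD r 0 then
      (match row with
       | Sum.inl i => (((chevG2Coroot.getD r #[]).getD i 0 : ℤ) : L) * t
       | Sum.inr u => if u = s then 1 else if u = r then -(t ^ 2) else 0)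
    else
      (match row with
       | Sum.inl _ => 0
       | Sum.inr u => (if u = s then 1 else 0) +
           ((chevG2.chainCoeff r s u).map fun km => ((km.2 : ℤ) : L) * t ^ km.1).sum)

theorem xMat_eq_xN (r : Fin chevG2.nroots) (t : L) (row col : chevG2.Idx) :
    chevG2.xMat L r t row col = xN r.val t (row.map Fin.val Fin.val) (col.map Fin.val Fin.val) := by
  rcases col with i | s <;> rcases row with i' | u <;>
    simp [ChevalleyDatum.xMat, xN, Fin.ext_iff, negIdx_eq, coroot_eq, cartanSR_eq]

theorem xMat_eq_xN' (r : Fin 12) (t : L) (row col : chevG2.Idx) :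
    chevG2.xMat L r t row col = xN r.val t (row.map Fin.val Fin.val) (col.map Fin.val Fin.val) :=
  xMat_eq_xN r t row col

theorem map_ht (i : Fin 2) : Sum.map Fin.val Fin.val (ht i) = Sum.inl (i : ℕ) := rfl
theorem map_rt (r : Fin 12) : Sum.map Fin.val Fin.val (rt r) = Sum.inr (r : ℕ) := rfl

theorem sum_idx (f : chevG2.Idx → L) :
    ∑ i, f i = f (ht 0) + f (ht 1) + (f (rt 0) + f (rt 1) + f (rt 2) + f (rt 3) + f (rt 4) + f (rt 5) +
      f (rt 6) + f (rt 7) + f (rt 8) + f (rt 9) + f (rt 10) + f (rt 11)) := by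
  rw [Fintype.sum_sum_type]
  show (∑ i : Fin 2, f (ht i)) + (∑ r : Fin 12, f (rt r)) = _
  simp [Fin.sum_univ_succ, add_assoc]

set_option maxHeartbeats 800000 in
theorem phi_tv_11 (t : L) (x : chevG2.Idx → L) :
    ofTri (act (CfsgLib.StSL.tv 0 1 t) (toTri x)) = chevG2.xMat L (11 : Fin 12) (-t) *ᵥ x := by
  funext row
  rw [Matrix.mulVec, dotProduct, sum_idx]
  rw [ofTri_apply, act_apply, toTri_apply]
  induction row using idx_cases <;>
    simp [CfsgLib.StSL.tv, Matrix.mul_apply,
          Matrix.mulVec, Matrix.vecMul, dotProduct, Fin.sum_univ_three,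
          Matrix.SpecialLinearGroup.coe_inv, Matrix.adjugate_fin_three,
          Matrix.SpecialLinearGroup.transvection_coe, Matrix.single_apply,
          xMat_eq_xN', map_ht, map_rt, xN, ChevalleyDatum.chainCoeff, chain_eq, chevG2NegIdx, chevG2Coroot,
          chevG2CartanSR, chevG2Chain, chevG2Chain11] <;> ring_nf

set_option maxHeartbeats 800000 in
theorem phi_tv_10 (t : L) (x : chevG2.Idx → L) :
    ofTri (act (CfsgLib.StSL.tv 0 2 t) (toTri x)) = chevG2.xMat L (10 : Fin 12) (-t) *ᵥ x := by
  funext row
  rw [Matrix.mulVec, dotProduct, sum_idx]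
  rw [ofTri_apply, act_apply, toTri_apply]
  induction row using idx_cases <;>
    simp [CfsgLib.StSL.tv, Matrix.mul_apply,
          Matrix.mulVec, Matrix.vecMul, dotProduct, Fin.sum_univ_three,
          Matrix.SpecialLinearGroup.coe_inv, Matrix.adjugate_fin_three,
          Matrix.SpecialLinearGroup.transvection_coe, Matrix.single_apply,
          xMat_eq_xN', map_ht, map_rt, xN, ChevalleyDatum.chainCoeff, chain_eq, chevG2NegIdx, chevG2Coroot,
          chevG2CartanSR, chevG2Chain, chevG2Chain10] <;> ring_nf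

set_option maxHeartbeats 800000 in
theorem phi_tv_5 (t : L) (x : chevG2.Idx → L) :
    ofTri (act (CfsgLib.StSL.tv 1 2 t) (toTri x)) = chevG2.xMat L (5 : Fin 12) (-t) *ᵥ x := by
  funext row
  rw [Matrix.mulVec, dotProduct, sum_idx]
  rw [ofTri_apply, act_apply, toTri_apply]
  induction row using idx_cases <;>
    simp [CfsgLib.StSL.tv, Matrix.mul_apply,
          Matrix.mulVec, Matrix.vecMul, dotProduct, Fin.sum_univ_three,
          Matrix.SpecialLinearGroup.coe_inv, Matrix.adjugate_fin_three,
          Matrix.SpecialLinearGroup.transvection_coe, Matrix.single_apply,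
          xMat_eq_xN', map_ht, map_rt, xN, ChevalleyDatum.chainCoeff, chain_eq, chevG2NegIdx, chevG2Coroot,
          chevG2CartanSR, chevG2Chain, chevG2Chain5] <;> ring_nf

set_option maxHeartbeats 800000 in
theorem phi_tv_0 (t : L) (x : chevG2.Idx → L) :
    ofTri (act (CfsgLib.StSL.tv 1 0 t) (toTri x)) = chevG2.xMat L (0 : Fin 12) (-t) *ᵥ x := by
  funext row
  rw [Matrix.mulVec, dotProduct, sum_idx]
  rw [ofTri_apply, act_apply, toTri_apply]
  induction row using idx_cases <;>
    simp [CfsgLib.StSL.tv, Matrix.mul_apply,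
          Matrix.mulVec, Matrix.vecMul, dotProduct, Fin.sum_univ_three,
          Matrix.SpecialLinearGroup.coe_inv, Matrix.adjugate_fin_three,
          Matrix.SpecialLinearGroup.transvection_coe, Matrix.single_apply,
          xMat_eq_xN', map_ht, map_rt, xN, ChevalleyDatum.chainCoeff, chain_eq, chevG2NegIdx, chevG2Coroot,
          chevG2CartanSR, chevG2Chain, chevG2Chain0] <;> ring_nf

set_option maxHeartbeats 800000 in
theorem phi_tv_1 (t : L) (x : chevG2.Idx → L) :
    ofTri (act (CfsgLib.StSL.tv 2 0 t) (toTri x)) = chevG2.xMat L (1 : Fin 12) (-t) *ᵥ x := by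
  funext row
  rw [Matrix.mulVec, dotProduct, sum_idx]
  rw [ofTri_apply, act_apply, toTri_apply]
  induction row using idx_cases <;>
    simp [CfsgLib.StSL.tv, Matrix.mul_apply,
          Matrix.mulVec, Matrix.vecMul, dotProduct, Fin.sum_univ_three,
          Matrix.SpecialLinearGroup.coe_inv, Matrix.adjugate_fin_three,
          Matrix.SpecialLinearGroup.transvection_coe, Matrix.single_apply,
          xMat_eq_xN', map_ht, map_rt, xN, ChevalleyDatum.chainCoeff, chain_eq, chevG2NegIdx, chevG2Coroot,
          chevG2CartanSR, chevG2Chain, chevG2Chain1] <;> ring_nf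

set_option maxHeartbeats 800000 in
theorem phi_tv_6 (t : L) (x : chevG2.Idx → L) :
    ofTri (act (CfsgLib.StSL.tv 2 1 t) (toTri x)) = chevG2.xMat L (6 : Fin 12) (-t) *ᵥ x := by
  funext row
  rw [Matrix.mulVec, dotProduct, sum_idx]
  rw [ofTri_apply, act_apply, toTri_apply]
  induction row using idx_cases <;>
    simp [CfsgLib.StSL.tv, Matrix.mul_apply,
          Matrix.mulVec, Matrix.vecMul, dotProduct, Fin.sum_univ_three,
          Matrix.SpecialLinearGroup.coe_inv, Matrix.adjugate_fin_three,
          Matrix.SpecialLinearGroup.transvection_coe, Matrix.single_apply,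
          xMat_eq_xN', map_ht, map_rt, xN, ChevalleyDatum.chainCoeff, chain_eq, chevG2NegIdx, chevG2Coroot,
          chevG2CartanSR, chevG2Chain, chevG2Chain6] <;> ring_nf

/-- `φ` takes its values in the group -/
theorem phi_mem (A : SL(3, L)) : phi A ∈ chevG2.group L := by
  refine CfsgLib.StSL.sl_induction (P := fun A => phi A ∈ chevG2.group L) ?_ ?_ A
  · intro i j hij t
    have key : ∀ (r : Fin 12), (∀ x : chevG2.Idx → L,
        ofTri (act (CfsgLib.StSL.tv i j t) (toTri x)) = chevG2.xMat L r (-t) *ᵥ x) →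
        phi (CfsgLib.StSL.tv i j t) ∈ chevG2.group L := fun r h =>
      Subgroup.subset_closure ⟨r, -t, by
        rw [phi_val]
        exact Matrix.ext_iff_mulVec.2 fun x => by rw [phiMat_mulVec, h x]⟩
    fin_cases i <;> fin_cases j
    exacts [absurd rfl hij, key _ (phi_tv_11 t), key _ (phi_tv_10 t), key _ (phi_tv_0 t),
      absurd rfl hij, key _ (phi_tv_5 t), key _ (phi_tv_1 t), key _ (phi_tv_6 t), absurd rfl hij]
  · intro a b ha hb
    show phi (a * b) ∈ _
    rw [map_mul]
    exact mul_mem ha hb

end CfsgLib.Chev.G2
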