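/-
The cyclic self-centralising subgroup of order `q² + q + 1` of `G₂(q)`: the Singer cycle of the
long root `SL₃`.
-/
import Cfsg.Agent.Lib.Chev.G2.LongSL3Gen
import Cfsg.Agent.Lib.Chev.RegularTorus
import Cfsg.Agent.Lib.KnownB.ChevField

set_option autoImplicit false

namespace CfsgLib.Chev.G2

open Cfsg.Lie Matrix CfsgLib.Chev CfsgLib.KnownB.ChevField
open scoped MatrixGroups

variable {F K : Type*} [Field F] [Field K]

/-! ### naturality -/

theorem phiMat_nat (f : F →+* K) (A : SL(3, F)) (x : chevG2.Idx → F) (i : chevG2.Idx) :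
    f ((phiMat A *ᵥ x) i) = (phiMat (SpecialLinearGroup.map f A) *ᵥ (f ∘ x)) i := by
  rw [phiMat_mulVec, phiMat_mulVec, ofTri_apply, act_apply, toTri_apply, ofTri_apply, act_apply,
    toTri_apply, ← map_inv (SpecialLinearGroup.map f) A]
  generalize A⁻¹ = B
  induction i using idx_cases <;>
    simp [SpecialLinearGroup.map_apply_coe, Matrix.mul_apply, Matrix.mulVec, Matrix.vecMul,
      dotProduct, Fin.sum_univ_three, map_ofNat]

theorem map_phi (f : F →+* K) (A : SL(3, F)) :
    Matrix.GeneralLinearGroup.map f (phi A) = phi (SpecialLinearGroup.map f A) := by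
  apply Units.ext
  ext i j
  show f ((phi A : GL chevG2.Idx F).val i j) = _
  have h := phiMat_nat f A (Pi.single j 1) i
  have hs : (f ∘ (Pi.single j 1 : chevG2.Idx → F)) = Pi.single j 1 := by
    funext k
    by_cases hk : k = j
    · subst hk; simp
    · simp [hk]
  rw [hs, Matrix.mulVec_single_one, Matrix.mulVec_single_one] at h
  simpa [phi_val] using h

/-! ### the torus -/

/-- the Cartan integers -/
def cartInt : Fin 2 → Fin 12 → ℤ :=
  ![![0, -3, -1, 1, -2, 3, -3, 2, -1, 1, 3, 0], ![-1, 1, 0, -1, 1, -2, 2, -1, 1, 0, -1, 1]]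

theorem chi_table (c : Fin chevG2.rank → Kˣ) (r : Fin 12) :
    chi chevG2 auxG2 c r =
      c (0 : Fin 2) ^ cartInt 0 r * c (1 : Fin 2) ^ cartInt 1 r := by
  have hc : ∀ (i : Fin 2), auxG2.cart i.val r.val = cartInt i r := by
    intro i
    rw [← stdG2.good.cart_eq i.val i.isLt r.val r.isLt]
    revert i r
    decide +kernel
  rw [chi]
  show ∏ i : Fin 2, c i ^ auxG2.cart i.val r.val = _
  rw [Fin.prod_univ_two, hc, hc]

/-- torus coordinates of `diag(u, v, (uv)⁻¹)` -/
def cvec (u v : Kˣ) : Fin chevG2.rank → Kˣ := (![u, u / v] : Fin 2 → Kˣ)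

/-- `diag(u, v, (uv)⁻¹)` -/
def dSL (u v : Kˣ) : SL(3, K) :=
  ⟨Matrix.diagonal ![(u : K), v, ((u * v)⁻¹ : Kˣ)], by
    rw [Matrix.det_diagonal, Fin.prod_univ_three]
    have h1 := u.ne_zero
    have h2 := v.ne_zero
    simp; field_simp⟩

theorem dSL_inv (u v : Kˣ) : (dSL u v)⁻¹ = dSL u⁻¹ v⁻¹ := by
  rw [inv_eq_iff_mul_eq_one]
  refine Subtype.ext ?_
  show Matrix.diagonal _ * Matrix.diagonal _ = 1
  rw [Matrix.diagonal_mul_diagonal, ← Matrix.diagonal_one]
  congr 1
  funext i
  have h1 := u.ne_zero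
  have h2 := v.ne_zero
  fin_cases i <;> simp [mul_comm] <;> field_simp

theorem elim_ht (a : Fin chevG2.rank → K) (b : Fin chevG2.nroots → K) (i : Fin 2) :
    Sum.elim a b (ht i) = a i := rfl

theorem elim_rt (a : Fin chevG2.rank → K) (b : Fin chevG2.nroots → K) (r : Fin 12) :
    Sum.elim a b (rt r) = b r := rfl

theorem phi_dSL (u v : Kˣ) : phi (dSL u v) = tor chevG2 auxG2 (cvec u v) := by
  apply Units.ext
  rw [phi_val, tor_val]
  refine Matrix.ext_iff_mulVec.2 fun x => funext fun i => ?_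
  rw [phiMat_mulVec, ofTri_apply, act_apply, toTri_apply, dia, Matrix.mulVec_diagonal, dSL_inv]
  have h1 := u.ne_zero
  have h2 := v.ne_zero
  have hd : ∀ j, Sum.elim (fun _ : Fin chevG2.rank => (1 : K))
      (fun s : Fin chevG2.nroots => (chi chevG2 auxG2 (cvec u v) s.val : K)) j =
      mkVec (fun _ => 1) (fun r => ((cvec u v (0 : Fin 2) ^ cartInt 0 r *
        cvec u v (1 : Fin 2) ^ cartInt 1 r : Kˣ) : K)) j := by
    rintro (j | j)
    · rfl
    · exact congrArg Units.val (chi_table _ j)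
  rw [hd]
  induction i using idx_cases <;>
    simp [dSL, cvec, cartInt, Matrix.mul_apply, Matrix.vecMul_diagonal,
      Matrix.mulVec_diagonal, Matrix.diagonal_apply] <;> field_simp <;> simp

/-- the short roots see the natural module -/
theorem phi_short (A : SL(3, K)) (x : chevG2.Idx → K) :
    (phiMat A *ᵥ x) (rt 9) = A.1 0 0 * x (rt 9) + A.1 0 1 * x (rt 3) + A.1 0 2 * x (rt 4) ∧
    (phiMat A *ᵥ x) (rt 3) = A.1 1 0 * x (rt 9) + A.1 1 1 * x (rt 3) + A.1 1 2 * x (rt 4) ∧
    (phiMat A *ᵥ x) (rt 4) = A.1 2 0 * x (rt 9) + A.1 2 1 * x (rt 3) + A.1 2 2 * x (rt 4) := by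
  rw [phiMat_mulVec, ofTri_apply, act_apply, toTri_apply]
  refine ⟨?_, ?_, ?_⟩ <;> simp [Matrix.mulVec, dotProduct, Fin.sum_univ_three]

theorem rt_ne {r s : Fin 12} (h : r ≠ s) : rt r ≠ rt s := fun e => h (Sum.inr_injective e)

/-- the twisted torus relations -/
theorem twist {σ : K →+* K} {N : SL(3, K)} {a : Fin chevG2.rank → Kˣ}
    (he : Matrix.GeneralLinearGroup.map σ (tor chevG2 auxG2 a) * phi N = phi N * tor chevG2 auxG2 a)
    (h01 : N.1 0 1 ≠ 0) (h12 : N.1 1 2 ≠ 0) :
    (chi chevG2 auxG2 a (3 : Fin 12) : K) = σ (chi chevG2 auxG2 a (9 : Fin 12) : K) ∧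
    (chi chevG2 auxG2 a (4 : Fin 12) : K) = σ (chi chevG2 auxG2 a (3 : Fin 12) : K) := by
  rw [map_tor] at he
  have he' := congrArg (fun z : GL chevG2.Idx K => (z : Matrix chevG2.Idx chevG2.Idx K)) he
  simp only [Units.val_mul, tor_val, phi_val, map_chi, dia] at he'
  have hent : ∀ r s : Fin 12, phiMat N (rt r) (rt s) ≠ 0 →
      (chi chevG2 auxG2 a (s : Fin 12) : K) = σ (chi chevG2 auxG2 a (r : Fin 12) : K) := by
    intro r s hrs
    have h := congrFun (congrFun he' (rt r)) (rt s)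
    rw [Matrix.diagonal_mul, Matrix.mul_diagonal, mul_comm] at h
    rw [elim_rt, elim_rt, ← map_chi σ a] at h
    exact (mul_left_cancel₀ hrs h).symm
  refine ⟨hent 9 3 ?_, hent 3 4 ?_⟩
  · have h := (phi_short N (Pi.single (rt 3) 1)).1
    rw [Matrix.mulVec_single_one, Pi.single_eq_same, Pi.single_eq_of_ne (rt_ne (by decide)),
      Pi.single_eq_of_ne (rt_ne (by decide))] at h
    rw [show phiMat N (rt 9) (rt 3) = N.1 0 1 by simpa using h]
    exact h01
  · have h := (phi_short N (Pi.single (rt 4) 1)).2.1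
    rw [Matrix.mulVec_single_one, Pi.single_eq_same, Pi.single_eq_of_ne (rt_ne (by decide)),
      Pi.single_eq_of_ne (rt_ne (by decide))] at h
    rw [show phiMat N (rt 3) (rt 4) = N.1 1 2 by simpa using h]
    exact h12

theorem sq_chain (u : Kˣ) {q : ℕ} {a1 : Kˣ} (h3 : u * a1⁻¹ = u ^ q)
    (h4 : u ^ (-2 : ℤ) * a1 = (u * a1⁻¹) ^ q) : u ^ (q * q + q + 1) = 1 ∧ a1 = u / u ^ q := by
  have ha : a1 = u / u ^ q := by rw [← h3]; simp
  refine ⟨?_, ha⟩
  rw [h3] at h4
  rw [pow_add, pow_add, pow_mul, ← h4, ha, pow_one]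
  simp [zpow_ofNat, div_eq_mul_inv]
  group

/-! ### the exponents of a generator -/

/-- the exponents of the twelve roots -/
def expo (q : ℤ) : Fin 12 → ℤ :=
  ![q - 1, -2 - q, -1, q, -1 - q, 1 + 2 * q, -1 - 2 * q, 1 + q, -q, 1, 2 + q, 1 - q]

theorem chi_expo (l : Kˣ) (q : ℕ) (r : Fin 12) :
    chi chevG2 auxG2 (cvec l (l ^ q)) r = l ^ expo q r := by
  rw [chi_table]
  fin_cases r <;>
    simp [cvec, cartInt, expo, div_eq_mul_inv, _root_.zpow_sub, _root_.zpow_add, _root_.zpow_neg, _root_.zpow_mul,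
      zpow_ofNat, mul_pow, inv_pow, mul_comm, mul_left_comm, mul_assoc] <;> group

theorem expo_ne {q : ℕ} (hq : 3 ≤ q) (r s : Fin 12) (hrs : r ≠ s) :
    ¬ ((q * q + q + 1 : ℕ) : ℤ) ∣ expo q r - expo q s ∧ ¬ ((q * q + q + 1 : ℕ) : ℤ) ∣ expo q r := by
  rcases eq_or_lt_of_le hq with h | h
  · subst h; revert r s; decide
  · have hqq : 4 * q ≤ q * q := Nat.mul_le_mul_right q h
    have key : ∀ e : ℤ, e ≠ 0 → -(4 * q + 2 : ℤ) ≤ e → e ≤ 4 * q + 2 →
        ¬ ((q * q + q + 1 : ℕ) : ℤ) ∣ e := by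
      intro e he h1 h2 hd
      refine he (Int.eq_zero_of_abs_lt_dvd hd ?_)
      rw [abs_lt]
      push_cast
      constructor <;> nlinarith
    have h4 : (4 : ℤ) ≤ q := by exact_mod_cast h
    revert hrs
    fin_cases r <;> fin_cases s <;> intro hrs <;>
      first
      | exact absurd rfl hrs
      | exact ⟨key _ (by simp [expo] <;> omega) (by simp [expo] <;> omega) (by simp [expo] <;> omega),
          key _ (by simp [expo] <;> omega) (by simp [expo] <;> omega) (by simp [expo] <;> omega)⟩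

/-! ### the main construction -/

theorem exists_root {F K : Type*} [Field F] [Fintype F] [Field K] [Finite K] (ι : F →+* K) {q : ℕ}
    (hF : Fintype.card F = q) (x : K) (hx : x ^ q = x) : ∃ y, ι y = x := by
  classical
  have := Fintype.ofFinite K
  set P : Polynomial K := Polynomial.X ^ q - Polynomial.X
  have hq : 1 < q := hF ▸ Fintype.one_lt_card
  have hP : P ≠ 0 := FiniteField.X_pow_card_sub_X_ne_zero K hq
  have hsub : Finset.univ.image ι ⊆ P.roots.toFinset := by
    intro y hy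
    obtain ⟨z, -, rfl⟩ := Finset.mem_image.1 hy
    rw [Multiset.mem_toFinset, Polynomial.mem_roots hP]
    simp [P, ← map_pow, ← hF, FiniteField.pow_card]
  have heq : Finset.univ.image ι = P.roots.toFinset := by
    refine Finset.eq_of_subset_of_card_le hsub ?_
    rw [Finset.card_image_of_injective _ ι.injective, Finset.card_univ, hF]
    refine le_trans (Multiset.toFinset_card_le _) (le_trans (Polynomial.card_roots' P) ?_)
    rw [FiniteField.X_pow_card_sub_X_natDegree_eq K hq]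
  have : x ∈ Finset.univ.image ι := by
    rw [heq, Multiset.mem_toFinset, Polynomial.mem_roots hP]
    simp [P, hx]
  simpa using this

theorem singer_torus {F : Type*} [Field F] [Fintype F] {q : ℕ} (hF : Fintype.card F = q) (hq : 3 ≤ q) :
    ∃ H : Subgroup ↥(chevG2.group F), IsCyclic ↥H ∧ Nat.card ↥H = q ^ 2 + q + 1 ∧
      Subgroup.centralizer (H : Set ↥(chevG2.group F)) = H := by
  classical
  obtain ⟨p, _⟩ := CharP.exists F
  haveI : Fact p.Prime := ⟨CharP.char_is_prime F p⟩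
  let K := FiniteField.Extension F p 3
  have hK : Nat.card K = q ^ 3 := by
    rw [FiniteField.natCard_extension, Nat.card_eq_fintype_card, hF]
  haveI : Finite K := Nat.finite_of_card_ne_zero (by rw [hK]; positivity)
  haveI := Fintype.ofFinite K
  have hKq : Fintype.card K = q ^ 3 := by rw [← Nat.card_eq_fintype_card, hK]
  let ι : F →+* K := algebraMap F K
  let σ : K →+* K := (FiniteField.frobeniusAlgHom F K).toRingHom
  have hσ : ∀ x, σ x = x ^ q := fun x => by rw [← hF]; rfl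
  have hσι : σ.comp ι = ι := RingHom.ext fun x => (FiniteField.frobeniusAlgHom F K).commutes x
  set m := q * q + q + 1 with hm
  have hm1 : m = q ^ 2 + q + 1 := by rw [hm]; ring
  -- an element of norm one
  obtain ⟨γ, hγ⟩ := IsCyclic.exists_ofOrder_eq_natCard (α := Kˣ)
  rw [Nat.card_units, hK] at hγ
  have hfac : q ^ 3 - 1 = (q - 1) * m := by
    obtain ⟨k, rfl⟩ : ∃ k, q = k + 1 := ⟨q - 1, by omega⟩
    rw [hm, Nat.add_sub_cancel, Nat.sub_eq_iff_eq_add (Nat.one_le_pow _ _ (by omega))]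
    ring
  set l := γ ^ (q - 1) with hl
  have hol : orderOf l = m := by
    rw [hl, orderOf_pow' _ (by omega), hγ, hfac, Nat.gcd_mul_right_left,
      Nat.mul_div_cancel_left _ (by omega)]
  have hlm : l ^ m = 1 := hol ▸ pow_orderOf_eq_one l
  clear_value l
  obtain ⟨a, ha⟩ : ∃ a : K, a = (l : K) := ⟨_, rfl⟩
  obtain ⟨b, hb⟩ : ∃ b : K, b = a ^ q := ⟨_, rfl⟩
  obtain ⟨c, hc⟩ : ∃ c : K, c = b ^ q := ⟨_, rfl⟩
  have habc : a * b * c = 1 := by
    have : ((l ^ m : Kˣ) : K) = 1 := by rw [hlm]; rfl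
    rw [← this, Units.val_pow_eq_pow_val, hm, ← ha, hc, hb]
    ring
  have hca : c ^ q = a := by
    have h0 : (a ^ (q * q) * a ^ q * a) = 1 := by
      rw [← habc, hc, hb]; ring
    have h1 : (a ^ (q * q) * a ^ q * a) ^ q = 1 := by rw [h0, one_pow]
    have h2 : c ^ q * (a ^ (q * q) * a ^ q) = 1 := by
      rw [← h1, hc, hb]; ring
    calc c ^ q = c ^ q * (a ^ (q * q) * a ^ q * a) := by rw [h0, mul_one]
      _ = c ^ q * (a ^ (q * q) * a ^ q) * a := by ring
      _ = a := by rw [h2, one_mul]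
  have hne : ∀ i j : ℕ, i < m → j < m → i ≠ j → a ^ i ≠ a ^ j := by
    intro i j hi hj hij h
    exact hij (pow_injOn_Iio_orderOf (x := l) (by simpa [hol] using hi) (by simpa [hol] using hj)
      (Units.ext (by simpa [← ha] using h)))
  have hqq : q < q * q := by nlinarith
  have hab : a ≠ b := by
    have := hne 1 q (by omega) (by omega) (by omega)
    rwa [pow_one, ← hb] at this
  have hac : a ≠ c := by
    have := hne 1 (q * q) (by omega) (by omega) (by omega)
    rwa [pow_one, pow_mul, ← hb, ← hc] at this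
  have hbc : b ≠ c := by
    have := hne q (q * q) (by omega) (by omega) (by omega)
    rwa [pow_mul a q q, ← hb, ← hc] at this
  have hfix1 : (a + b + c) ^ q = a + b + c := by
    rw [← hσ, map_add, map_add, hσ, hσ, hσ, hca, ← hb, ← hc]; ring
  have hfix2 : (a * b + a * c + b * c) ^ q = a * b + a * c + b * c := by
    rw [← hσ, map_add, map_add, map_mul, map_mul, map_mul, hσ, hσ, hσ, hca, ← hb, ← hc]; ring
  obtain ⟨e₁, he₁⟩ := exists_root ι hF _ hfix1
  obtain ⟨e₂, he₂⟩ := exists_root ι hF _ hfix2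
  -- the companion matrix and its eigenrows
  let C : SL(3, F) := ⟨!![0, 0, 1; 1, 0, -e₂; 0, 1, e₁], by simp [Matrix.det_fin_three]⟩
  let Qm : Matrix (Fin 3) (Fin 3) K := !![1, a, a ^ 2; 1, b, b ^ 2; 1, c, c ^ 2]
  have hdet : Qm.det = (b - a) * (c - a) * (c - b) := by
    simp [Qm, Matrix.det_fin_three]; ring
  have hdet0 : Qm.det ≠ 0 := by
    rw [hdet]
    simp [sub_ne_zero, hab.symm, hac.symm, hbc.symm]
  obtain ⟨δ, hδ⟩ : ∃ δ : K, δ = Qm.det⁻¹ := ⟨_, rfl⟩
  have hδ0 : δ ≠ 0 := hδ ▸ inv_ne_zero hdet0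
  let Q : SL(3, K) := ⟨Matrix.diagonal ![δ, 1, 1] * Qm, by
    rw [Matrix.det_mul, Matrix.det_diagonal, Fin.prod_univ_three]
    simp [hδ, inv_mul_cancel₀ hdet0]⟩
  let W : Matrix (Fin 3) (Fin 3) K := !![0, σ δ, 0; 0, 0, 1; δ⁻¹, 0, 0]
  set N : SL(3, K) := SpecialLinearGroup.map σ Q * Q⁻¹ with hN
  have hNW : N.1 = W := by
    have h1 : (SpecialLinearGroup.map σ Q).1 = W * Q.1 := by
      show (Matrix.diagonal ![δ, 1, 1] * Qm).map σ = W * (Matrix.diagonal ![δ, 1, 1] * Qm)
      ext i j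
      have hσa : σ a = b := by rw [hσ, ← hb]
      have hσb : σ b = c := by rw [hσ, ← hc]
      have hσc : σ c = a := by rw [hσ, hca]
      fin_cases i <;> fin_cases j <;>
        simp [W, Qm, Matrix.mul_apply, Fin.sum_univ_three, Matrix.diagonal_apply, hσa, hσb, hσc, inv_mul_cancel_left₀ hδ0,
          inv_mul_cancel₀ hδ0]
    rw [hN]
    show (SpecialLinearGroup.map σ Q).1 * (Q⁻¹).1 = W
    rw [h1, mul_assoc]
    show W * (Q * Q⁻¹ : SL(3, K)).1 = W
    rw [mul_inv_cancel]
    exact mul_one W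
  let lc : Fin chevG2.rank → Kˣ := cvec l (l ^ q)
  have hconj : Q * SpecialLinearGroup.map ι C = dSL l (l ^ q) * Q := by
    refine Subtype.ext ?_
    show (Matrix.diagonal ![δ, 1, 1] * Qm) * (!![0, 0, 1; 1, 0, -e₂; 0, 1, e₁]).map ι =
      Matrix.diagonal ![(l : K), ((l ^ q : Kˣ) : K), (((l * l ^ q)⁻¹ : Kˣ) : K)] *
        (Matrix.diagonal ![δ, 1, 1] * Qm)
    have hc' : (((l * l ^ q)⁻¹ : Kˣ) : K) = c := by
      rw [Units.val_inv_eq_inv_val, Units.val_mul, Units.val_pow_eq_pow_val, ← ha, ← hb]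
      exact (eq_inv_of_mul_eq_one_right habc).symm
    rw [hc', Units.val_pow_eq_pow_val, ← ha, ← hb]
    ext i j
    fin_cases i <;> fin_cases j <;>
      simp [Qm, Matrix.mul_apply, Fin.sum_univ_three, Matrix.diagonal_apply, he₁, he₂] <;>
      try ring
    · linear_combination (-δ) * habc
    · linear_combination (-1 : K) * habc
    · linear_combination (-1 : K) * habc
  have hgrp : ∀ A : SL(3, F), phi A ∈ chevG2.group F := phi_mem
  let h : ↥(chevG2.group F) := ⟨phi C, hgrp C⟩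
  set g : GL chevG2.Idx K := phi Q with hg
  have hgconj : g * Matrix.GeneralLinearGroup.map ι (phi C) * g⁻¹ = tor chevG2 auxG2 lc := by
    rw [hg, map_phi, ← map_mul, hconj, map_mul, mul_inv_cancel_right, phi_dSL]
  have hinjι : Function.Injective (Matrix.GeneralLinearGroup.map (n := chevG2.Idx) ι) :=
    fun x y e => Units.ext (Matrix.map_injective ι.injective (congrArg Units.val e))
  -- order
  have hord : orderOf h = m := by
    rw [← Subgroup.orderOf_coe, ← orderOf_injective _ hinjι,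
      ← orderOf_injective (MulAut.conj g).toMonoidHom (MulAut.conj g).injective]
    show orderOf (g * Matrix.GeneralLinearGroup.map ι (phi C) * g⁻¹) = m
    rw [hgconj]
    have : Function.Injective (tor (F := K) chevG2 auxG2) := fun x y e =>
      tor_eq_iff stdG2.good unimodular_G2 e
    rw [orderOf_injective _ this, ← hol]
    refine orderOf_eq_orderOf_iff.2 fun n => ⟨fun hn => ?_, fun hn => ?_⟩
    · exact congrFun hn (0 : Fin 2)
    · funext i
      show cvec l (l ^ q) i ^ n = 1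
      change Fin 2 at i
      fin_cases i
      · exact hn
      · show (l / l ^ q) ^ n = 1
        rw [div_pow, ← pow_mul, mul_comm, pow_mul, hn, one_pow, div_one]
  refine ⟨Subgroup.zpowers h, inferInstance, by rw [Nat.card_zpowers, hord, hm1], ?_⟩
  symm
  refine Subgroup.eq_of_le_of_card_ge ?_ ?_
  · intro x hx
    rw [Subgroup.mem_centralizer_iff]
    intro z hz
    obtain ⟨i, rfl⟩ := Subgroup.mem_zpowers_iff.1 hz
    obtain ⟨j, rfl⟩ := Subgroup.mem_zpowers_iff.1 hx
    exact ((Commute.refl h).zpow_zpow i j).eq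
  rw [Nat.card_zpowers, hord]
  -- the centraliser is small
  have hreg : ∀ r < chevG2.nroots, chi chevG2 auxG2 lc r ≠ 1 ∧
      ∀ s < chevG2.nroots, chi chevG2 auxG2 lc r = chi chevG2 auxG2 lc s → r = s := by
    intro r hr
    have hval : ∀ t (ht : t < chevG2.nroots),
        chi chevG2 auxG2 lc t = l ^ expo q ⟨t, ht⟩ := fun t ht => chi_expo l q ⟨t, ht⟩
    refine ⟨?_, fun s hs e => ?_⟩
    · obtain ⟨s, hs⟩ : ∃ s : Fin 12, (⟨r, hr⟩ : Fin 12) ≠ s := exists_ne _ |>.imp fun s h => h.symm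
      rw [hval r hr, Ne, ← orderOf_dvd_iff_zpow_eq_one, hol, hm]
      exact (expo_ne hq _ s hs).2
    · by_contra hrs
      rw [hval r hr, hval s hs] at e
      have h2 : l ^ (expo q ⟨r, hr⟩ - expo q ⟨s, hs⟩) = 1 := by
        rw [_root_.zpow_sub, e, mul_inv_cancel]
      rw [← orderOf_dvd_iff_zpow_eq_one, hol, hm] at h2
      exact (expo_ne hq _ _ fun e' => hrs (congrArg Fin.val e')).1 h2
  have hdesc : ∀ y : ↥(Subgroup.centralizer (Subgroup.zpowers h : Set ↥(chevG2.group F))),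
      ∃ u : Kˣ, u ^ m = 1 ∧ g * Matrix.GeneralLinearGroup.map ι y.1.1 * g⁻¹ =
        tor chevG2 auxG2 (cvec u (u ^ q)) := by
    intro y
    set yK := Matrix.GeneralLinearGroup.map ι y.1.1 with hyK
    have hmem : g * yK * g⁻¹ ∈ chevG2.group K :=
      mul_mem (mul_mem (phi_mem Q) (group_map_le stdG2.good ι ⟨_, y.1.2, rfl⟩))
        (inv_mem (phi_mem Q))
    have hcy : Matrix.GeneralLinearGroup.map ι (phi C) * yK =
        yK * Matrix.GeneralLinearGroup.map ι (phi C) := by
      have := Subgroup.mem_centralizer_iff.1 y.2 h (Subgroup.mem_zpowers h)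
      rw [hyK, ← map_mul, ← map_mul]
      exact congrArg _ (congrArg Subtype.val this)
    obtain ⟨t, ht⟩ := commute_regular stdG2 lc (fun r hr => (hreg r hr).1)
      (fun r hr => (hreg r hr).2) hmem (by
        rw [← hgconj]
        calc g * Matrix.GeneralLinearGroup.map ι (phi C) * g⁻¹ * (g * yK * g⁻¹) =
            g * (Matrix.GeneralLinearGroup.map ι (phi C) * yK) * g⁻¹ := by group
          _ = _ := by rw [hcy]; group)
    have hfix : Matrix.GeneralLinearGroup.map σ yK = yK := by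
      rw [hyK]
      refine Units.ext (Matrix.ext fun i j => ?_)
      exact RingHom.congr_fun hσι _
    have hσg : Matrix.GeneralLinearGroup.map σ g = phi N * g := by
      rw [hg, map_phi, hN, ← map_mul, inv_mul_cancel_right]
    have htw : Matrix.GeneralLinearGroup.map σ (tor chevG2 auxG2 t) * phi N =
        phi N * tor chevG2 auxG2 t := by
      rw [← ht, map_mul, map_mul, map_inv, hσg, hfix]
      group
    obtain ⟨h3, h4⟩ := twist htw (by rw [hNW]; simp [W, hσ, hδ0]) (by rw [hNW]; simp [W])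
    simp only [chi_table, hσ, ← Units.val_pow_eq_pow_val, Units.val_inj] at h3 h4
    simp only [cartInt] at h3 h4
    have h3' : t (0 : Fin 2) * (t (1 : Fin 2))⁻¹ = t (0 : Fin 2) ^ q := by simpa using h3
    have h4' : t (0 : Fin 2) ^ (-2 : ℤ) * t (1 : Fin 2) = (t (0 : Fin 2) * (t (1 : Fin 2))⁻¹) ^ q := by
      simpa using h4
    obtain ⟨hu, h1⟩ := sq_chain (t (0 : Fin 2)) h3' h4'
    refine ⟨t (0 : Fin 2), hu, ?_⟩
    rw [ht]
    congr 1
    funext i
    change Fin 2 at i
    fin_cases i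
    · rfl
    · exact h1
  choose u hu hu' using hdesc
  haveI : NeZero m := ⟨by omega⟩
  refine le_trans (Nat.card_le_card_of_injective
    (fun y => (⟨u y, (mem_rootsOfUnity m (u y)).2 (hu y)⟩ : rootsOfUnity m K)) ?_) ?_
  · intro y y' e
    have e' : u y = u y' := congrArg Subtype.val e
    have := (hu' y).trans ((e' ▸ rfl : tor chevG2 auxG2 (cvec (u y) (u y ^ q)) =
      tor chevG2 auxG2 (cvec (u y') (u y' ^ q))).trans (hu' y').symm)
    exact Subtype.ext (Subtype.ext (hinjι (mul_left_cancel (mul_right_cancel this))))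
  · exact card_rootsOfUnity K m

end CfsgLib.Chev.G2
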